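import Cfsg.Agent.Lib.M12Cent.Table
import Mathlib.GroupTheory.Sylow
import Mathlib.Tactic

/-!
A group with an involution whose centraliser has the given multiplication table: dictionary between
elements of the centraliser and indices.
-/

set_option autoImplicit false
set_option linter.unusedSectionVars false

namespace Cfsg.Agent.M12Cent

open Cfsg.Agent.PermCert

universe u

variable {G : Type u} [Group G]

/-- The hypothesis: the centraliser of `t`, enumerated compatibly with the table. -/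
structure Setup (G : Type u) [Group G] where
  t : G
  el : ℕ → G
  mem : ∀ x : G, x * t = t * x ↔ ∃ i < 192, el i = x
  inj : ∀ i < 192, ∀ j < 192, el i = el j → i = j
  mul : ∀ i < 192, ∀ j < 192, el i * el j = el (T i j)
  el_zero : el 0 = 1
  el_one : el 1 = t

theorem T_lt {i j : ℕ} (hi : i < 192) (hj : j < 192) : T i j < 192 :=
  Nat.le_of_ble_eq_true (allBelow_spec _ _ (allBelow_spec _ _ chk_T i hi) j hj)

theorem card_range_filter {n : ℕ} (f : ℕ → Bool) :
    Nat.card {i : ℕ // i < n ∧ f i = true} = (List.range n).countP f := by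
  classical
  rw [List.countP_eq_length_filter, ← List.toFinset_card_of_nodup (List.nodup_range.filter f),
    ← Nat.card_eq_finsetCard]
  refine Nat.card_congr (Equiv.subtypeEquivRight fun i => ?_)
  simp

theorem any_range {n : ℕ} {f : ℕ → Bool} (h : (List.range n).any f = true) : ∃ i < n, f i = true := by
  obtain ⟨i, hi, hf⟩ := List.any_eq_true.1 h
  exact ⟨i, List.mem_range.1 hi, hf⟩

/-- The elements commuting with two given ones. -/
noncomputable def cc (a b : G) : ℕ := Nat.card {x : G // x * a = a * x ∧ x * b = b * x}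

theorem cc_comm (a b : G) : cc a b = cc b a :=
  Nat.card_congr (Equiv.subtypeEquivRight fun _ => and_comm)

theorem conj_comm_iff (g x a : G) : g * x * g⁻¹ * (g * a * g⁻¹) = g * a * g⁻¹ * (g * x * g⁻¹) ↔
    x * a = a * x := by
  rw [conj_mul, conj_mul, mul_left_inj, mul_right_inj]

theorem cc_conj (g a b : G) : cc (g * a * g⁻¹) (g * b * g⁻¹) = cc a b :=
  (Nat.card_congr (Equiv.subtypeEquiv (MulAut.conj g).toEquiv fun x => by
    simp only [MulEquiv.toEquiv_eq_coe, EquivLike.coe_coe, MulAut.conj_apply, conj_comm_iff])).symm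

theorem orderOf_two_iff {x : G} : orderOf x = 2 ↔ x ≠ 1 ∧ x * x = 1 := by
  haveI : Fact (Nat.Prime 2) := ⟨Nat.prime_two⟩
  rw [orderOf_eq_prime_iff, sq, and_comm]

theorem orderOf_conj_two {x : G} (h : orderOf x = 2) (g : G) : orderOf (g * x * g⁻¹) = 2 :=
  (MulEquiv.orderOf_eq (MulAut.conj g) x).trans h

theorem exists_conj {a b : G} (h : IsConj a b) : ∃ g : G, g * a * g⁻¹ = b := isConj_iff.1 h

theorem isConj_conj (g a : G) : IsConj a (g * a * g⁻¹) := isConj_iff.2 ⟨g, rfl⟩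

namespace Setup

variable (S : Setup G)

theorem el_comm {i : ℕ} (hi : i < 192) : S.el i * S.t = S.t * S.el i := (S.mem _).2 ⟨i, hi, rfl⟩

theorem comm_iff {i j : ℕ} (hi : i < 192) (hj : j < 192) :
    S.el i * S.el j = S.el j * S.el i ↔ cm i j = true := by
  rw [S.mul i hi j hj, S.mul j hj i hi, cm, Nat.beq_eq]
  exact ⟨S.inj _ (T_lt hi hj) _ (T_lt hj hi), congrArg S.el⟩

theorem inv2_iff {i : ℕ} (hi : i < 192) : orderOf (S.el i) = 2 ↔ inv2 i = true := by
  rw [orderOf_two_iff, S.mul i hi i hi, ← S.el_zero, inv2, Bool.and_eq_true, Bool.not_eq_true',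
    Nat.beq_eq]
  constructor
  · rintro ⟨h1, h2⟩
    exact ⟨Bool.eq_false_iff.2 fun h => h1 (congrArg S.el (Nat.eq_of_beq_eq_true h)),
      S.inj _ (T_lt hi hi) _ (by norm_num) h2⟩
  · rintro ⟨h1, h2⟩
    exact ⟨fun h => by simp [S.inj i hi 0 (by norm_num) h] at h1, congrArg S.el h2⟩

theorem ht2 : orderOf S.t = 2 := by
  rw [← S.el_one, S.inv2_iff (by norm_num)]
  exact chk_kind.2.1

theorem t_ne : S.t ≠ 1 := (orderOf_two_iff.1 S.ht2).1

theorem t_sq : S.t * S.t = 1 := (orderOf_two_iff.1 S.ht2).2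

theorem cc_el {i : ℕ} (hi : i < 192) : cc S.t (S.el i) = nC i := by
  rw [nC, ← card_range_filter]
  refine (Nat.card_congr (Equiv.ofBijective (fun j : {j : ℕ // j < 192 ∧ cm j i = true} =>
    (⟨S.el j.1, S.el_comm j.2.1, (S.comm_iff j.2.1 hi).2 j.2.2⟩ :
      {x : G // x * S.t = S.t * x ∧ x * S.el i = S.el i * x})) ⟨fun a b h => ?_, fun x => ?_⟩)).symm
  · exact Subtype.ext (S.inj _ a.2.1 _ b.2.1 (congrArg Subtype.val h))
  · obtain ⟨j, hj, hjx⟩ := (S.mem x.1).1 x.2.1
    exact ⟨⟨j, hj, (S.comm_iff hj hi).1 (by rw [hjx]; exact x.2.2)⟩, Subtype.ext hjx⟩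

theorem cc_self : cc S.t S.t = 192 := by
  conv_lhs => arg 2; rw [← S.el_one]
  rw [S.cc_el (by norm_num), nC, List.countP_eq_length.2 ?_, List.length_range]
  intro j hj
  have h := allBelow_spec _ _ chk_central.1 j (List.mem_range.1 hj)
  rw [cm, Nat.beq_eq] at h ⊢
  exact h.symm

/-- An involution of the centraliser with centraliser of order 32 there. -/
def P (x : G) : Prop := ∃ i < 192, S.el i = x ∧ isP i = true

/-- An involution of the centraliser with centraliser of order 16 there. -/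
def R (x : G) : Prop := ∃ i < 192, S.el i = x ∧ isR i = true

/-- An involution of the centraliser with centraliser of order 8 there. -/
def Y (x : G) : Prop := ∃ i < 192, S.el i = x ∧ isY i = true

theorem kind_invol {i : ℕ} (hi : i < 192) (h : isP i = true ∨ isR i = true ∨ isY i = true) :
    inv2 i = true := by
  have h' := allBelow_spec _ _ chk_kind.1 i hi
  cases hv : inv2 i
  · rw [hv, cond_false] at h'
    rcases h with h | h | h <;> simp [h] at h'
  · rfl

theorem kind {i : ℕ} (hi : i < 192) (hv : inv2 i = true) :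
    i = 1 ∨ (isP i = true ∧ nC i = 32) ∨ (isR i = true ∧ nC i = 16) ∨ (isY i = true ∧ nC i = 8) := by
  have h := allBelow_spec _ _ chk_kind.1 i hi
  rw [hv, cond_true] at h
  simpa only [Bool.or_eq_true, Bool.and_eq_true, Nat.beq_eq, or_assoc] using h

theorem cases {x : G} (hx : orderOf x = 2) (hc : x * S.t = S.t * x) :
    x = S.t ∨ (S.P x ∧ cc S.t x = 32) ∨ (S.R x ∧ cc S.t x = 16) ∨ (S.Y x ∧ cc S.t x = 8) := by
  obtain ⟨i, hi, rfl⟩ := (S.mem x).1 hc
  rw [S.cc_el hi]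
  rcases kind hi ((S.inv2_iff hi).1 hx) with h | h | h | h
  · exact Or.inl (by rw [h, S.el_one])
  · exact Or.inr (Or.inl ⟨⟨i, hi, rfl, h.1⟩, h.2⟩)
  · exact Or.inr (Or.inr (Or.inl ⟨⟨i, hi, rfl, h.1⟩, h.2⟩))
  · exact Or.inr (Or.inr (Or.inr ⟨⟨i, hi, rfl, h.1⟩, h.2⟩))

theorem not_two_kinds {i : ℕ} (hi : i < 192) :
    (isP i = true → i ≠ 1 ∧ nC i = 32) ∧ (isR i = true → i ≠ 1 ∧ nC i = 16) ∧
      (isY i = true → i ≠ 1 ∧ nC i = 8) := by
  have h := allBelow_spec _ _ chk_kind.1 i hi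
  have h1 : ∀ j, isP j = true ∨ isR j = true ∨ isY j = true → j ≠ 1 := fun j hj he => by
    subst he
    have := chk_kind.2.2
    rcases hj with hj | hj | hj <;> simp [hj] at this
  refine ⟨fun hp => ⟨h1 i (Or.inl hp), ?_⟩, fun hp => ⟨h1 i (Or.inr (Or.inl hp)), ?_⟩,
    fun hp => ⟨h1 i (Or.inr (Or.inr hp)), ?_⟩⟩
  all_goals
    have hv := kind_invol hi (by simp [hp])
    rcases kind hi hv with e | e | e | e
    all_goals
      first
      | exact absurd e (h1 i (by simp [hp]))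
      | exact e.2
      | skip
  all_goals
    have hd : ∀ i < 192, (isP i && isR i || isP i && isY i || isR i && isY i) = false := by decide +kernel
    have := hd i hi
    simp [hp, e.1] at this

theorem P_def {x : G} (h : S.P x) : orderOf x = 2 ∧ x * S.t = S.t * x ∧ cc S.t x = 32 := by
  obtain ⟨i, hi, rfl, h⟩ := h
  exact ⟨(S.inv2_iff hi).2 (kind_invol hi (Or.inl h)), S.el_comm hi,
    by rw [S.cc_el hi]; exact ((not_two_kinds hi).1 h).2⟩

theorem R_def {x : G} (h : S.R x) : orderOf x = 2 ∧ x * S.t = S.t * x ∧ cc S.t x = 16 := by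
  obtain ⟨i, hi, rfl, h⟩ := h
  exact ⟨(S.inv2_iff hi).2 (kind_invol hi (Or.inr (Or.inl h))), S.el_comm hi,
    by rw [S.cc_el hi]; exact ((not_two_kinds hi).2.1 h).2⟩

theorem Y_def {x : G} (h : S.Y x) : orderOf x = 2 ∧ x * S.t = S.t * x ∧ cc S.t x = 8 := by
  obtain ⟨i, hi, rfl, h⟩ := h
  exact ⟨(S.inv2_iff hi).2 (kind_invol hi (Or.inr (Or.inr h))), S.el_comm hi,
    by rw [S.cc_el hi]; exact ((not_two_kinds hi).2.2 h).2⟩

theorem conj_of_wit {i r w : ℕ} (hi : i < 192) (hr : r < 192) (hw : w < 192)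
    (h : T w r = T i w) : IsConj (S.el r) (S.el i) :=
  isConj_iff.2 ⟨S.el w, by
    rw [mul_inv_eq_iff_eq_mul, S.mul w hw r hr, S.mul i hi w hw, h]⟩

/-- The representatives. -/
def p : G := S.el p₀
/-- The representative with centraliser of order 16. -/
def r : G := S.el r₀
/-- The representative with centraliser of order 8. -/
def y : G := S.el y₀

theorem p_P : S.P S.p := ⟨p₀, chk_conj.2.2.2.2.1, rfl, chk_conj.2.1⟩
theorem r_R : S.R S.r := ⟨r₀, chk_conj.2.2.2.2.2.1, rfl, chk_conj.2.2.1⟩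
theorem y_Y : S.Y S.y := ⟨y₀, chk_conj.2.2.2.2.2.2, rfl, chk_conj.2.2.2.1⟩

theorem conj_P {x : G} (h : S.P x) : IsConj S.p x := by
  obtain ⟨i, hi, rfl, h⟩ := h
  have h' := allBelow_spec _ _ chk_conj.1 i hi
  simp only [h, Bool.not_true, Bool.false_or, Bool.and_eq_true, Nat.beq_eq, Nat.blt_eq] at h'
  exact S.conj_of_wit hi chk_conj.2.2.2.2.1 h'.1.1.1 h'.1.1.2

theorem conj_R {x : G} (h : S.R x) : IsConj S.r x := by
  obtain ⟨i, hi, rfl, h⟩ := h
  have h' := allBelow_spec _ _ chk_conj.1 i hi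
  simp only [h, Bool.not_true, Bool.false_or, Bool.and_eq_true, Nat.beq_eq, Nat.blt_eq] at h'
  exact S.conj_of_wit hi chk_conj.2.2.2.2.2.1 h'.1.2.1 h'.1.2.2

theorem conj_Y {x : G} (h : S.Y x) : IsConj S.y x := by
  obtain ⟨i, hi, rfl, h⟩ := h
  have h' := allBelow_spec _ _ chk_conj.1 i hi
  simp only [h, Bool.not_true, Bool.false_or, Bool.and_eq_true, Nat.beq_eq, Nat.blt_eq] at h'
  exact S.conj_of_wit hi chk_conj.2.2.2.2.2.2 h'.2.1 h'.2.2

/-- Conjugation within the centraliser of the involution that carries `x` to the representative. -/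
theorem conj_R_in {x : G} (h : S.R x) : ∃ w : G, w * S.t = S.t * w ∧ w * S.r * w⁻¹ = x := by
  obtain ⟨i, hi, rfl, h⟩ := h
  have h' := allBelow_spec _ _ chk_conj.1 i hi
  simp only [h, Bool.not_true, Bool.false_or, Bool.and_eq_true, Nat.beq_eq, Nat.blt_eq] at h'
  refine ⟨S.el (get 8 witR i), S.el_comm h'.1.2.1, ?_⟩
  rw [mul_inv_eq_iff_eq_mul, Setup.r, S.mul _ h'.1.2.1 _ chk_conj.2.2.2.2.2.1, S.mul i hi _ h'.1.2.1,
    h'.1.2.2]

/-- The square roots of `t` among the elements commuting with an element of the second kind. -/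
theorem R_sq {x : G} (h : S.R x) :
    (∀ d, d * S.t = S.t * d → d * x = x * d → d * d = 1 ∨ d * d = S.t) ∧
      ∃ d, d * S.t = S.t * d ∧ d * x = x * d ∧ d * d = S.t := by
  obtain ⟨i, hi, rfl, h⟩ := h
  have h' := allBelow_spec _ _ chk_R i hi
  simp only [h, Bool.not_true, Bool.false_or, Bool.and_eq_true] at h'
  refine ⟨fun d hd hdx => ?_, ?_⟩
  · obtain ⟨j, hj, rfl⟩ := (S.mem d).1 hd
    have h2 := allBelow_spec _ _ h'.1.1.1.1 j hj
    simp only [(S.comm_iff hj hi).1 hdx, Bool.not_true, Bool.false_or, Nat.blt_eq] at h2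
    rw [S.mul j hj j hj]
    rcases (show T j j = 0 ∨ T j j = 1 by omega) with e | e
    · exact Or.inl (by rw [e, S.el_zero])
    · exact Or.inr (by rw [e, S.el_one])
  · obtain ⟨j, hj, hf⟩ := any_range h'.1.1.1.2
    rw [Bool.and_eq_true, Nat.beq_eq] at hf
    exact ⟨S.el j, S.el_comm hj, (S.comm_iff hj hi).2 hf.1, by rw [S.mul j hj j hj, hf.2, S.el_one]⟩

theorem R_no_Y {x z : G} (h : S.R x) (hz : S.Y z) : z * x ≠ x * z := by
  obtain ⟨i, hi, rfl, h⟩ := h
  obtain ⟨j, hj, rfl, hz'⟩ := hz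
  intro hc
  have h' := allBelow_spec _ _ chk_R i hi
  simp only [h, Bool.not_true, Bool.false_or, Bool.and_eq_true] at h'
  have h2 := allBelow_spec _ _ h'.1.1.2 j hj
  simp [kind_invol hj (Or.inr (Or.inr hz')), (S.comm_iff hj hi).1 hc, hz'] at h2

theorem R_P {x : G} (h : S.R x) : (∃ a, S.P a ∧ a * x = x * a) ∧
    ∀ a b, S.P a → a * x = x * a → S.P b → b * x = x * b → (a = b ∨ a * b = S.t) ∧
      ∃ d, d * S.t = S.t * d ∧ d * x = x * d ∧ d * a * d⁻¹ = b := by
  obtain ⟨i, hi, rfl, h⟩ := h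
  have h' := allBelow_spec _ _ chk_R i hi
  simp only [h, Bool.not_true, Bool.false_or, Bool.and_eq_true] at h'
  refine ⟨?_, ?_⟩
  · obtain ⟨a, ha, hf⟩ := any_range h'.1.2
    rw [Bool.and_eq_true] at hf
    exact ⟨S.el a, ⟨a, ha, rfl, hf.1⟩, (S.comm_iff ha hi).2 hf.2⟩
  · rintro _ _ ⟨a, ha, rfl, ha'⟩ hax ⟨b, hb, rfl, hb'⟩ hbx
    have h2 := allBelow_spec _ _ h'.2 a ha
    simp only [ha', (S.comm_iff ha hi).1 hax, Bool.and_true, Bool.not_true, Bool.false_or] at h2
    have h3 := allBelow_spec _ _ h2 b hb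
    simp only [hb', (S.comm_iff hb hi).1 hbx, Bool.and_true, Bool.not_true, Bool.false_or,
      Bool.and_eq_true, Bool.or_eq_true, Nat.beq_eq] at h3
    obtain ⟨d, hd, hf⟩ := any_range h3.2
    rw [Bool.and_eq_true, Nat.beq_eq] at hf
    refine ⟨h3.1.imp (congrArg S.el) (fun e => by rw [S.mul a ha b hb, e, S.el_one]),
      S.el d, S.el_comm hd, (S.comm_iff hd hi).2 hf.1, ?_⟩
    rw [mul_inv_eq_iff_eq_mul, S.mul d hd a ha, S.mul b hb d hd, hf.2]

theorem Y_P {x : G} (h : S.Y x) :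
    (∃ a, S.P a ∧ a * x = x * a ∧ S.P (a * S.t) ∧ a * S.t * x = x * (a * S.t) ∧ a * S.t ≠ a) ∧
    ∀ a b, S.P a → a * x = x * a → S.P b → b * x = x * b → a = b ∨ a * b = S.t := by
  obtain ⟨i, hi, rfl, h⟩ := h
  have h' := allBelow_spec _ _ chk_Y i hi
  simp only [h, Bool.not_true, Bool.false_or, Bool.and_eq_true] at h'
  refine ⟨?_, ?_⟩
  · obtain ⟨a, ha, hf⟩ := any_range h'.1.1
    simp only [Bool.and_eq_true, Bool.not_eq_true'] at hf
    have e : S.el a * S.t = S.el (T a 1) := by rw [← S.el_one, S.mul a ha 1 (by norm_num)]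
    have hT := T_lt ha (show 1 < 192 by norm_num)
    refine ⟨S.el a, ⟨a, ha, rfl, hf.1.1.1.1⟩, (S.comm_iff ha hi).2 hf.1.1.1.2, ?_, ?_, ?_⟩
    · exact ⟨_, hT, e.symm, hf.1.1.2⟩
    · rw [e]; exact (S.comm_iff hT hi).2 hf.1.2
    · rw [e]; intro he
      rw [S.inj _ hT _ ha he] at hf
      simp at hf
  · rintro _ _ ⟨a, ha, rfl, ha'⟩ hax ⟨b, hb, rfl, hb'⟩ hbx
    have h2 := allBelow_spec _ _ h'.1.2 a ha
    simp only [ha', (S.comm_iff ha hi).1 hax, Bool.and_true, Bool.not_true, Bool.false_or] at h2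
    have h3 := allBelow_spec _ _ h2 b hb
    simp only [hb', (S.comm_iff hb hi).1 hbx, Bool.and_true, Bool.not_true, Bool.false_or,
      Bool.or_eq_true, Nat.beq_eq] at h3
    exact h3.imp (congrArg S.el) fun e => by rw [S.mul a ha b hb, e, S.el_one]

theorem D_cases {x a d : G} (h : S.R x) (ha : S.P a) (hax : a * x = x * a) (hd : d * S.t = S.t * d)
    (hdx : d * x = x * d) : d = 1 ∨ d = S.t ∨ d = a ∨ d = a * S.t ∨ d = x ∨ d = x * S.t ∨ d = x * a ∨
      d = x * (a * S.t) ∨ orderOf d = 2 ∨ orderOf (d * a) = 2 := by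
  obtain ⟨i, hi, rfl, h⟩ := h
  obtain ⟨b, hb, rfl, hb'⟩ := ha
  obtain ⟨j, hj, rfl⟩ := (S.mem d).1 hd
  have h' := allBelow_spec _ _ chk_D i hi
  simp only [h, Bool.not_true, Bool.false_or] at h'
  have h2 := allBelow_spec _ _ h' b hb
  simp only [hb', (S.comm_iff hb hi).1 hax, Bool.and_true, Bool.not_true, Bool.false_or] at h2
  have h3 := allBelow_spec _ _ h2 j hj
  simp only [(S.comm_iff hj hi).1 hdx, Bool.not_true, Bool.false_or, Bool.or_eq_true, Nat.beq_eq] at h3
  have h1 : (1 : ℕ) < 192 := by norm_num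
  rcases h3 with ((((((((e | e) | e) | e) | e) | e) | e) | e) | e) | e
  · exact Or.inl (by rw [e, S.el_zero])
  · exact Or.inr <| Or.inl (by rw [e, S.el_one])
  · exact Or.inr <| Or.inr <| Or.inl (by rw [e])
  · exact Or.inr <| Or.inr <| Or.inr <| Or.inl (by rw [e, ← S.el_one, S.mul b hb 1 h1])
  · exact Or.inr <| Or.inr <| Or.inr <| Or.inr <| Or.inl (by rw [e])
  · exact Or.inr <| Or.inr <| Or.inr <| Or.inr <| Or.inr <| Or.inl (by rw [e, ← S.el_one, S.mul i hi 1 h1])
  · exact Or.inr <| Or.inr <| Or.inr <| Or.inr <| Or.inr <| Or.inr <| Or.inl (by rw [e, S.mul i hi b hb])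
  · exact Or.inr <| Or.inr <| Or.inr <| Or.inr <| Or.inr <| Or.inr <| Or.inr <| Or.inl
      (by rw [e, ← S.el_one, S.mul b hb 1 h1, S.mul i hi _ (T_lt hb h1)])
  · exact Or.inr <| Or.inr <| Or.inr <| Or.inr <| Or.inr <| Or.inr <| Or.inr <| Or.inr <| Or.inl
      ((S.inv2_iff hj).2 e)
  · exact Or.inr <| Or.inr <| Or.inr <| Or.inr <| Or.inr <| Or.inr <| Or.inr <| Or.inr <| Or.inr
      (by rw [S.mul j hj b hb]; exact (S.inv2_iff (T_lt hj hb)).2 e)

theorem central_eq {z : G} (hz : orderOf z = 2) (hc : z * S.t = S.t * z)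
    (h : ∀ x, x * S.t = S.t * x → x * z = z * x) : z = S.t := by
  obtain ⟨i, hi, rfl⟩ := (S.mem z).1 hc
  have h' := allBelow_spec _ _ chk_central.2 i hi
  have hall : allBelow (fun j => cm i j) 192 = true := by
    have : ∀ j < 192, cm i j = true := fun j hj => (S.comm_iff hi hj).1 (h _ (S.el_comm hj)).symm
    clear h'
    suffices ∀ n ≤ 192, allBelow (fun j => cm i j) n = true from this 192 le_rfl
    intro n
    induction n with
    | zero => intro _; rfl
    | succ n ih => intro hn; show (allBelow _ n && _) = true; rw [ih (by omega), Bool.true_and]; exact this n (by omega)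
  simp only [hall, Bool.not_true, Bool.false_or, Nat.blt_eq] at h'
  rcases (show i = 0 ∨ i = 1 by omega) with rfl | rfl
  · rw [S.el_zero, orderOf_one] at hz; omega
  · exact S.el_one

end Setup

end Cfsg.Agent.M12Cent
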