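import Cfsg.Agent.Lib.M12Cent.Setup
import Cfsg.Agent.S0215
import Cfsg.Agent.S0111

/-!
Fusion of involutions in a group with the given centraliser: two classes.
-/

set_option autoImplicit false
set_option linter.unusedSectionVars false
set_option linter.style.haveILetI false

namespace Cfsg.Agent.M12Cent

open Cfsg.Agent.PermCert

universe u

variable {G : Type u} [Group G] [Finite G]

/-- A subgroup of index two in another is invariant under it. -/
theorem conj_mem_of_double {H K : Subgroup G} (hle : H ≤ K) (hc : Nat.card K = 2 * Nat.card H) {n h : G}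
    (hn : n ∈ K) (hh : h ∈ H) : n * h * n⁻¹ ∈ H := by
  have hi : (H.subgroupOf K).index = 2 := by
    have h1 := Subgroup.index_mul_card (H.subgroupOf K)
    rw [Nat.card_congr (Subgroup.subgroupOfEquivOfLe hle).toEquiv, hc] at h1
    exact Nat.eq_of_mul_eq_mul_right Nat.card_pos h1
  have hn' := (Subgroup.normal_of_index_eq_two hi).conj_mem ⟨h, hle hh⟩ hh ⟨n, hn⟩
  exact hn'

/-- A subgroup of order `2 ^ k`, all of whose double overgroups in `H` are excluded, is Sylow in `H`. -/
theorem card_sylow_of_no_double {H U : Subgroup G} (hUH : U ≤ H) {k : ℕ} (hU : Nat.card U = 2 ^ k)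
    (hno : ∀ K : Subgroup G, U ≤ K → K ≤ H → Nat.card K = 2 ^ (k + 1) → False) :
    ¬ 2 ^ (k + 1) ∣ Nat.card H := by
  intro hd
  haveI : Fact (Nat.Prime 2) := ⟨Nat.prime_two⟩
  obtain ⟨K, hK, hle⟩ := Sylow.exists_subgroup_card_pow_succ (p := 2) (G := H) hd
    (H := U.subgroupOf H) (by rw [Nat.card_congr (Subgroup.subgroupOfEquivOfLe hUH).toEquiv, hU])
  refine hno (K.map H.subtype) (fun u hu => ⟨⟨u, hUH hu⟩, hle hu, rfl⟩) (Subgroup.map_subtype_le _) ?_
  rw [Subgroup.card_map_of_injective H.subtype_injective, hK]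

/-- The subgroup with given underlying set closed under products. -/
def ofClosed (s : Set G) (h1 : (1 : G) ∈ s) (hm : ∀ a ∈ s, ∀ b ∈ s, a * b ∈ s) : Subgroup G where
  carrier := s
  one_mem' := h1
  mul_mem' := fun ha hb => hm _ ha _ hb
  inv_mem' := fun {a} ha => by
    have hp : ∀ k : ℕ, a ^ k ∈ s := fun k => by
      induction k with
      | zero => rwa [pow_zero]
      | succ k ih => rw [pow_succ]; exact hm _ ih _ ha
    rw [show a⁻¹ = a ^ (orderOf a - 1) from inv_eq_of_mul_eq_one_left (by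
      rw [← pow_succ, Nat.sub_add_cancel (isOfFinOrder_of_finite a).orderOf_pos, pow_orderOf_eq_one])]
    exact hp _

namespace Setup

variable (S : Setup G)

theorem mem_centralizer {x : G} : x ∈ Subgroup.centralizer ({S.t} : Set G) ↔ ∃ i < 192, S.el i = x := by
  rw [Subgroup.mem_centralizer_singleton_iff, S.mem]

theorem card_cent : Nat.card (Subgroup.centralizer ({S.t} : Set G)) = 192 := by
  rw [← S.cc_self]
  exact Nat.card_congr (Equiv.subtypeEquivRight fun x => by
    rw [Subgroup.mem_centralizer_singleton_iff, and_self])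

/-- The Sylow subgroup. -/
def syl : Subgroup G :=
  ofClosed {x | ∃ i < 64, S.el i = x} ⟨0, by norm_num, S.el_zero⟩ (by
    rintro _ ⟨i, hi, rfl⟩ _ ⟨j, hj, rfl⟩
    exact ⟨T i j, Nat.le_of_ble_eq_true (allBelow_spec _ _ (allBelow_spec _ _ chk_S.1 i hi) j hj),
      (S.mul i (by omega) j (by omega)).symm⟩)

theorem mem_syl {x : G} : x ∈ S.syl ↔ ∃ i < 64, S.el i = x := Iff.rfl

theorem card_syl : Nat.card S.syl = 2 ^ 6 := by
  rw [Nat.card_congr (Equiv.ofBijective (fun i : Fin 64 => (⟨S.el i, i, i.2, rfl⟩ : S.syl))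
    ⟨fun a b h => Fin.ext (S.inj _ (by omega) _ (by omega) (congrArg Subtype.val h)),
      fun ⟨x, i, hi, hx⟩ => ⟨⟨i, hi⟩, Subtype.ext hx⟩⟩).symm, Nat.card_eq_fintype_card, Fintype.card_fin]
  norm_num

theorem syl_central {z : G} (hz : z ∈ S.syl) (h : ∀ x ∈ S.syl, x * z = z * x) (hz1 : z ≠ 1) : z = S.t := by
  obtain ⟨i, hi, rfl⟩ := hz
  have h' := allBelow_spec _ _ chk_S.2 i hi
  have hall : allBelow (fun j => cm i j) 64 = true := by
    have : ∀ j < 64, cm i j = true := fun j hj =>
      (S.comm_iff (by omega) (by omega)).1 (h _ ⟨j, hj, rfl⟩).symm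
    clear h'
    suffices ∀ n ≤ 64, allBelow (fun j => cm i j) n = true from this 64 le_rfl
    intro n
    induction n with
    | zero => intro _; rfl
    | succ n ih => intro hn; show (allBelow _ n && _) = true; rw [ih (by omega), Bool.true_and]; exact this n (by omega)
  simp only [hall, Bool.not_true, Bool.false_or, Nat.blt_eq] at h'
  rcases (show i = 0 ∨ i = 1 by omega) with rfl | rfl
  · exact absurd S.el_zero hz1
  · exact S.el_one

theorem exists_sylow : ∃ P : Sylow 2 G, (P : Subgroup G) = S.syl := by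
  haveI : Fact (Nat.Prime 2) := ⟨Nat.prime_two⟩
  obtain ⟨P, hP⟩ := (IsPGroup.of_card S.card_syl).exists_le_sylow
  refine ⟨P, (Subgroup.eq_of_le_of_card_ge hP ?_).symm⟩
  obtain ⟨m, hm⟩ := P.isPGroup'.exists_card_eq
  rw [hm, S.card_syl]
  refine Nat.pow_le_pow_right (by norm_num) (le_of_not_gt fun hlt => ?_)
  refine card_sylow_of_no_double (H := ⊤) le_top S.card_syl (fun K hle _ hK => ?_) ?_
  · have ht : S.t ∈ S.syl := ⟨1, by norm_num, S.el_one⟩
    have hK' : Nat.card K = 2 * Nat.card S.syl := by rw [hK, S.card_syl]; norm_num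
    have hfix : K ≤ Subgroup.centralizer ({S.t} : Set G) := fun n hn => by
      refine Subgroup.mem_centralizer_singleton_iff.2 (mul_inv_eq_iff_eq_mul.1 ?_)
      refine S.syl_central (conj_mem_of_double hle hK' hn ht) (fun x hx => ?_)
        (fun h => S.t_ne (conj_eq_one_iff.1 h))
      have hx' := conj_mem_of_double hle hK' (inv_mem hn) hx
      rw [inv_inv] at hx'
      have hc : n⁻¹ * x * n * S.t = S.t * (n⁻¹ * x * n) := by
        obtain ⟨i, hi, he⟩ := hx'
        rw [← he]; exact S.el_comm (by omega)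
      calc x * (n * S.t * n⁻¹) = n * (n⁻¹ * x * n * S.t) * n⁻¹ := by group
        _ = _ := by rw [hc]; group
    have := Subgroup.card_dvd_of_le hfix
    rw [hK, S.card_cent] at this
    norm_num at this
  · rw [Subgroup.card_top]
    exact (pow_dvd_pow 2 (by omega : 6 + 1 ≤ m)).trans (hm ▸ Subgroup.card_subgroup_dvd_card _)

theorem exists_in_syl {x : G} (hx : orderOf x = 2) : ∃ g : G, g * x * g⁻¹ ∈ S.syl := by
  haveI : Fact (Nat.Prime 2) := ⟨Nat.prime_two⟩
  obtain ⟨P, hP⟩ := S.exists_sylow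
  have h2 : IsPGroup 2 (Subgroup.zpowers x) := IsPGroup.of_card (n := 1) (by rw [Nat.card_zpowers, hx, pow_one])
  obtain ⟨Q, hQ⟩ := h2.exists_le_sylow
  obtain ⟨g, hg⟩ := MulAction.exists_smul_eq G Q P
  refine ⟨g, ?_⟩
  rw [← hP, ← hg]
  exact Subgroup.smul_mem_pointwise_smul _ _ _ (hQ (Subgroup.mem_zpowers x))

theorem syl_le {x : G} (hx : x ∈ S.syl) : x * S.t = S.t * x := by
  obtain ⟨i, hi, rfl⟩ := hx
  exact S.el_comm (by omega)

/-- The second kind is not conjugate to `t`. -/
theorem not_tR {x : G} (hx : S.R x) : ¬ IsConj S.t x := by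
  intro hc
  obtain ⟨g, hg⟩ := exists_conj hc.symm
  obtain ⟨hx2, hxt, hcc⟩ := S.R_def hx
  set t' := g * S.t * g⁻¹ with ht'
  have hc' : t' * S.t = S.t * t' := by rw [← hg, ht', conj_comm_iff]; exact hxt.symm
  have hcc' : cc S.t t' = 16 := by rw [← hg, ht', cc_conj, cc_comm, hcc]
  obtain ⟨-, d, hd1, hd2, hd3⟩ := S.R_sq hx
  have hR' : S.R t' := by
    rcases S.cases (x := t') (orderOf_conj_two S.ht2 g) hc' with h | h | h | h
    · rw [h, S.cc_self] at hcc'; omega
    · omega
    · exact h.1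
    · omega
  set d' := g * d * g⁻¹
  have h1 : d' * S.t = S.t * d' := by rw [← hg, conj_comm_iff]; exact hd2
  have h2 : d' * t' = t' * d' := by rw [ht', conj_comm_iff]; exact hd1
  have h3 : d' * d' = t' := by rw [ht', conj_mul, hd3]
  rcases (S.R_sq hR').1 d' h1 h2 with h | h <;> rw [h3] at h
  · exact S.t_ne (conj_eq_one_iff.1 h)
  · have hxe : x = S.t := by
      have hgt : g * S.t = S.t * g := mul_inv_eq_iff_eq_mul.1 h
      calc x = g⁻¹ * (g * x * g⁻¹) * g := by group
        _ = g⁻¹ * (S.t * g) := by rw [hg]; group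
        _ = g⁻¹ * (g * S.t) := by rw [hgt]
        _ = S.t := by group
    rw [hxe, S.cc_self] at hcc
    omega

theorem not_tr : ¬ IsConj S.t S.r := S.not_tR S.r_R

theorem p_of_y (h : IsConj S.t S.y) : IsConj S.t S.p := by
  obtain ⟨g, hg⟩ := exists_conj h.symm
  obtain ⟨hy2, hyt, hcc⟩ := S.Y_def S.y_Y
  set t' := g * S.t * g⁻¹ with ht'
  have hc' : t' * S.t = S.t * t' := by rw [← hg, ht', conj_comm_iff]; exact hyt.symm
  have hcc' : cc S.t t' = 8 := by rw [← hg, ht', cc_conj, cc_comm, hcc]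
  have hY' : S.Y t' := by
    rcases S.cases (x := t') (orderOf_conj_two S.ht2 g) hc' with h | h | h | h
    · rw [h, S.cc_self] at hcc'; omega
    · omega
    · omega
    · exact h.1
  obtain ⟨⟨a, haP, hay, hbP, hby, hne⟩, -⟩ := S.Y_P S.y_Y
  have key : ∀ b, S.P b → b * S.y = S.y * b → IsConj S.t S.p ∨
      (S.P (g * b * g⁻¹) ∧ g * b * g⁻¹ * t' = t' * (g * b * g⁻¹)) := by
    intro b hb hby
    obtain ⟨hb2, hbt, -⟩ := S.P_def hb
    have hc1 : g * b * g⁻¹ * S.t = S.t * (g * b * g⁻¹) := by rw [← hg, conj_comm_iff]; exact hby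
    have hc2 : g * b * g⁻¹ * t' = t' * (g * b * g⁻¹) := by rw [ht', conj_comm_iff]; exact hbt
    rcases S.cases (orderOf_conj_two hb2 g) hc1 with h' | h' | h' | h'
    · exact Or.inl (((h' ▸ isConj_conj g b : IsConj b S.t)).symm.trans (S.conj_P hb).symm)
    · exact Or.inr ⟨h'.1, hc2⟩
    · exact absurd hc2.symm (S.R_no_Y h'.1 hY')
    · exact Or.inl ((h.trans (S.conj_Y h'.1)).trans ((isConj_conj g b).symm.trans (S.conj_P hb).symm))
  rcases key a haP hay with h' | ⟨h1, h1'⟩
  · exact h'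
  rcases key (a * S.t) hbP hby with h' | ⟨h2, h2'⟩
  · exact h'
  exfalso
  rcases (S.Y_P hY').2 _ _ h1 h1' h2 h2' with e | e
  · exact hne (mul_left_cancel (mul_right_cancel e)).symm
  · have hsq : a * (a * S.t) = S.t := by rw [← mul_assoc, (orderOf_two_iff.1 (S.P_def haP).1).2, one_mul]
    rw [conj_mul, hsq] at e
    have : cc S.t t' = 192 := by rw [ht', e, S.cc_self]
    omega

section simple

variable [IsSimpleGroup G] (hG : ¬ IsMulCommutative G)
include hG

theorem not_central : S.t ∉ Subgroup.center G := by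
  intro h
  rcases IsSimpleGroup.eq_bot_or_eq_top_of_normal (Subgroup.center G) inferInstance with e | e
  · exact S.t_ne (Subgroup.mem_bot.1 (e ▸ h))
  · exact hG ⟨⟨fun a b => Subgroup.mem_center_iff.1 (e ▸ Subgroup.mem_top b) a⟩⟩

/-- `t` is conjugate to the first kind. -/
theorem tP_of_simple : IsConj S.t S.p := by
  obtain ⟨P, hP⟩ := S.exists_sylow
  have htP : S.t ∈ (P : Subgroup G) := hP ▸ ⟨1, by norm_num, S.el_one⟩
  by_contra hne
  obtain ⟨N, hN, hodd, hcomm⟩ := S0215.result P S.t S.ht2 htP fun g hg => by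
    have hg' : g * S.t * g⁻¹ * S.t = S.t * (g * S.t * g⁻¹) := S.syl_le (hP ▸ hg)
    rcases S.cases (orderOf_conj_two S.ht2 g) hg' with h | h | h | h
    · exact h
    · exact absurd ((isConj_conj g S.t).trans (S.conj_P h.1).symm) hne
    · exact absurd ((isConj_conj g S.t).trans (IsConj.refl _)) (S.not_tR h.1)
    · exact absurd (S.p_of_y ((isConj_conj g S.t).trans (S.conj_Y h.1).symm)) hne
  rcases IsSimpleGroup.eq_bot_or_eq_top_of_normal N hN with e | e
  · refine S.not_central hG (Subgroup.mem_center_iff.2 fun g => ?_)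
    have h := hcomm g
    rw [e, Subgroup.mem_bot, mul_inv_eq_one, mul_inv_eq_iff_eq_mul] at h
    exact h.symm
  · rw [e, Subgroup.card_top] at hodd
    have h := orderOf_dvd_natCard S.t
    rw [S.ht2] at h
    exact Nat.not_even_iff_odd.2 hodd (even_iff_two_dvd.2 h)

omit hG in
theorem index_two_of_simple (N : Subgroup G) (hN : N.index = 2) : S.y ∈ N := by
  rcases IsSimpleGroup.eq_bot_or_eq_top_of_normal N (Subgroup.normal_of_index_eq_two hN) with e | e
  · rw [e, Subgroup.index_bot] at hN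
    have h := S.card_cent ▸ Subgroup.card_subgroup_dvd_card (Subgroup.centralizer ({S.t} : Set G))
    rw [hN] at h
    norm_num at h
  · exact e ▸ Subgroup.mem_top _

end simple

/-- What is used in place of simplicity: `t` is fused with the first kind, and the third kind is in every subgroup
of index two. -/
structure Pre : Prop where
  tP : IsConj S.t S.p
  index : ∀ N : Subgroup G, N.index = 2 → S.y ∈ N

theorem pre_of_simple [IsSimpleGroup G] (hG : ¬ IsMulCommutative G) : S.Pre :=
  ⟨S.tP_of_simple hG, S.index_two_of_simple⟩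

section pre

variable (hG : S.Pre)
include hG

/-- `t` is conjugate to the first kind. -/
theorem tP : IsConj S.t S.p := hG.tP

/-- Every involution. -/
theorem invol_classes {x : G} (hx : orderOf x = 2) : IsConj S.t x ∨ IsConj S.r x ∨ IsConj S.y x := by
  obtain ⟨g, hg⟩ := S.exists_in_syl hx
  have hc := (isConj_conj g x).symm
  rcases S.cases (orderOf_conj_two hx g) (S.syl_le hg) with h | h | h | h
  · exact Or.inl (by rw [h] at hc; exact hc)
  · exact Or.inl (((S.tP hG).trans (S.conj_P h.1)).trans hc)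
  · exact Or.inr (Or.inl ((S.conj_R h.1).trans hc))
  · exact Or.inr (Or.inr ((S.conj_Y h.1).trans hc))

/-- The third kind joins one of the first two classes. -/
theorem yY : IsConj S.t S.y ∨ IsConj S.r S.y := by
  obtain ⟨P, hP⟩ := S.exists_sylow
  let M : Subgroup G := ofClosed {x | ∃ i < 64, maskM.testBit i = true ∧ S.el i = x}
    ⟨0, by norm_num, chk_M.2.1, S.el_zero⟩ (by
      rintro _ ⟨i, hi, hi', rfl⟩ _ ⟨j, hj, hj', rfl⟩
      have h := allBelow_spec _ _ chk_M.1 i hi
      simp only [hi', Bool.not_true, Bool.false_or, Bool.and_eq_true] at h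
      have h2 := allBelow_spec _ _ h.2 j hj
      simp only [hj', Bool.not_true, Bool.false_or] at h2
      exact ⟨T i j, Nat.le_of_ble_eq_true (allBelow_spec _ _ (allBelow_spec _ _ chk_S.1 i hi) j hj), h2,
        (S.mul i (by omega) j (by omega)).symm⟩)
  have hle : M ≤ (P : Subgroup G) := by
    rw [hP]; rintro _ ⟨i, hi, -, rfl⟩; exact ⟨i, hi, rfl⟩
  have hMc : Nat.card M = 32 := by
    rw [← chk_M.2.2.2.2.2, ← card_range_filter]
    exact (Nat.card_congr (Equiv.ofBijective
      (fun i : {i : ℕ // i < 64 ∧ maskM.testBit i = true} => (⟨S.el i.1, i.1, i.2.1, i.2.2, rfl⟩ : M))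
      ⟨fun a b h => Subtype.ext (S.inj _ (by omega) _ (by omega) (congrArg Subtype.val h)),
        fun ⟨x, i, hi, hi', hx⟩ => ⟨⟨i, hi, hi'⟩, Subtype.ext hx⟩⟩)).symm
  have hidx : M.relIndex (P : Subgroup G) = 2 := by
    have h1 := Subgroup.index_mul_card (M.subgroupOf (P : Subgroup G))
    rw [Nat.card_congr (Subgroup.subgroupOfEquivOfLe hle).toEquiv, hMc, hP, S.card_syl] at h1
    show (M.subgroupOf (P : Subgroup G)).index = 2
    rw [hP]
    omega
  have hy0 : y₀ < 64 := chk_M.2.2.2.1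
  rcases S0111.result P M hle hidx S.y (S.Y_def S.y_Y).1 (hP ▸ ⟨y₀, hy0, rfl⟩) (by
      rintro ⟨i, hi, hi', he⟩
      rw [S.inj i (by omega) y₀ (by omega) he, chk_M.2.2.1] at hi'
      exact Bool.false_ne_true hi') with ⟨N, hN, hN2, hyN⟩ | ⟨g, hg⟩
  · exact absurd (hG.index N hN2) hyN
  · have hc := isConj_conj g S.y
    obtain ⟨i, hi, hiM, he⟩ := hg
    have h := allBelow_spec _ _ chk_M.1 i hi
    simp only [hiM, Bool.not_true, Bool.false_or, Bool.and_eq_true, Bool.not_eq_true'] at h
    rcases S.cases (orderOf_conj_two (S.Y_def S.y_Y).1 g) (he ▸ S.el_comm (by omega)) with h' | h' | h' | h'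
    · exact Or.inl (by rw [h'] at hc; exact hc.symm)
    · exact Or.inl ((S.tP hG).trans ((S.conj_P h'.1).trans hc.symm))
    · exact Or.inr ((S.conj_R h'.1).trans hc.symm)
    · obtain ⟨j, hj, hje, hjY⟩ := h'.1
      rw [S.inj j hj i (by omega) (hje.trans he.symm)] at hjY
      rw [hjY] at h
      exact absurd h.1 (by simp)

end pre

end Setup

end Cfsg.Agent.M12Cent
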