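import Cfsg.Agent.Lib.M12Cent.Data

/-!
Checked facts on the multiplication table of the centraliser of a central involution of `M₁₂`.
The involution has index `1`; the first 64 indices form a Sylow subgroup.
-/

set_option autoImplicit false
set_option maxRecDepth 20000

namespace Cfsg.Agent.M12Cent

open Cfsg.Agent.PermCert

/-- The product of two indices. -/
def T (i j : ℕ) : ℕ := get 8 (cRows.getD i 0) j

/-- The two indices commute. -/
def cm (i j : ℕ) : Bool := Nat.beq (T i j) (T j i)

/-- The index is an involution. -/
def inv2 (i : ℕ) : Bool := !(Nat.beq i 0) && Nat.beq (T i i) 0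

/-- The number of indices commuting with one. -/
def nC (i : ℕ) : ℕ := (List.range 192).countP fun j => cm j i

/-- The power of an index. -/
def pw (x k : ℕ) : ℕ := Nat.rec 0 (fun _ v => T x v) k

/-- Membership in the cyclic group of an index. -/
def inZ (w x : ℕ) : Bool := (List.range 24).any fun k => Nat.beq (pw x k) w

/-- Involutions with centraliser of order 32. -/
def isP (i : ℕ) : Bool := maskP.testBit i

/-- Involutions with centraliser of order 16. -/
def isR (i : ℕ) : Bool := maskR.testBit i

/-- Involutions with centraliser of order 8. -/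
def isY (i : ℕ) : Bool := maskY.testBit i

theorem chk_T : allBelow (fun i => allBelow (fun j => Nat.blt (T i j) 192) 192) 192 = true := by
  decide +kernel

theorem chk_kind : allBelow (fun i => bif inv2 i then
    Nat.beq i 1 || (isP i && Nat.beq (nC i) 32) || (isR i && Nat.beq (nC i) 16) || (isY i && Nat.beq (nC i) 8)
    else !(isP i || isR i || isY i)) 192 = true ∧ inv2 1 = true ∧ (isP 1 || isR 1 || isY 1) = false := by
  decide +kernel

theorem chk_central : allBelow (fun j => cm 1 j) 192 = true ∧
    allBelow (fun i => !(allBelow (fun j => cm i j) 192) || Nat.blt i 2) 192 = true := by decide +kernel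

theorem chk_conj : allBelow (fun i =>
    (!(isP i) || (Nat.blt (get 8 witP i) 192 && Nat.beq (T (get 8 witP i) p₀) (T i (get 8 witP i)))) &&
    (!(isR i) || (Nat.blt (get 8 witR i) 192 && Nat.beq (T (get 8 witR i) r₀) (T i (get 8 witR i)))) &&
    (!(isY i) || (Nat.blt (get 8 witY i) 192 && Nat.beq (T (get 8 witY i) y₀) (T i (get 8 witY i))))) 192 = true ∧
    isP p₀ = true ∧ isR r₀ = true ∧ isY y₀ = true ∧ p₀ < 192 ∧ r₀ < 192 ∧ y₀ < 192 := by
  decide +kernel

theorem chk_R : allBelow (fun i => !(isR i) ||
    (allBelow (fun d => !(cm d i) || Nat.blt (T d d) 2) 192 &&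
      (List.range 192).any (fun d => cm d i && Nat.beq (T d d) 1) &&
      allBelow (fun x => !(inv2 x && cm x i) || !(isY x)) 192 &&
      (List.range 192).any (fun a => isP a && cm a i) &&
      allBelow (fun a => !(isP a && cm a i) || allBelow (fun b => !(isP b && cm b i) ||
        ((Nat.beq a b || Nat.beq (T a b) 1) &&
          (List.range 192).any (fun d => cm d i && Nat.beq (T d a) (T b d)))) 192) 192)) 192 = true := by
  decide +kernel

theorem chk_D : allBelow (fun i => !(isR i) || allBelow (fun a => !(isP a && cm a i) ||
    allBelow (fun x => !(cm x i) || Nat.beq x 0 || Nat.beq x 1 || Nat.beq x a || Nat.beq x (T a 1) ||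
      Nat.beq x i || Nat.beq x (T i 1) || Nat.beq x (T i a) || Nat.beq x (T i (T a 1)) ||
      inv2 x || inv2 (T x a)) 192) 192) 192 = true := by decide +kernel

theorem chk_Y : allBelow (fun i => !(isY i) ||
    ((List.range 192).any (fun p => isP p && cm p i && isP (T p 1) && cm (T p 1) i && !(Nat.beq (T p 1) p)) &&
      allBelow (fun p => !(isP p && cm p i) || allBelow (fun q => !(isP q && cm q i) ||
        Nat.beq p q || Nat.beq (T p q) 1) 192) 192 &&
      allBelow (fun x => !(inv2 x && cm x i) || !(isR x)) 192)) 192 = true := by decide +kernel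

theorem chk_S : allBelow (fun i => allBelow (fun j => Nat.blt (T i j) 64) 64) 64 = true ∧
    allBelow (fun i => !(allBelow (fun j => cm i j) 64) || Nat.blt i 2) 64 = true := by decide +kernel

theorem chk_M : allBelow (fun i => !(maskM.testBit i) || (!(isY i) &&
    allBelow (fun j => !(maskM.testBit j) || maskM.testBit (T i j)) 64)) 64 = true ∧
    maskM.testBit 0 = true ∧ maskM.testBit y₀ = false ∧ y₀ < 64 ∧ isY y₀ = true ∧
    (List.range 64).countP (fun i => maskM.testBit i) = 32 := by decide +kernel

theorem chk_pow : allBelow (fun x => Nat.beq (pw x 24) 0) 192 = true := by decide +kernel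

/-- The number of pairs with given properties. -/
def pairs (f : ℕ → ℕ → Bool) : ℕ :=
  (List.range 192).foldl (fun acc i => acc + (List.range 192).countP fun j => f i j) 0

/-- The first kind in the case of two classes meeting the third kind. -/
def bI (i : ℕ) : Bool := Nat.beq i 1 || isP i || isY i

/-- The first kind in the other case. -/
def bII (i : ℕ) : Bool := Nat.beq i 1 || isP i

theorem count_tI : pairs (fun i j => bI i && isR j && inZ 1 (T i j)) = 240 := by decide +kernel

theorem count_tII : pairs (fun i j => bII i && (isR j || isY j) && inZ 1 (T i j)) = 48 := by decide +kernel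

theorem count_rII : pairs (fun i j => cm i r₀ && cm j r₀ && bII i && (isR j || isY j) && inZ r₀ (T i j)) = 3 := by
  decide +kernel

theorem count_four : pairs (fun i j => bI i && bI j && !(cm i j) && Nat.beq (T (T i j) (T i j)) 1) = 96 := by
  decide +kernel

theorem count_bI : (List.range 192).countP bI = 31 := by decide +kernel

theorem count_bII : (List.range 192).countP bII = 7 := by decide +kernel

end Cfsg.Agent.M12Cent
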